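import Cfsg.Agent.H558.EPU.Elem
import Cfsg.Agent.H950.EPU.PKill
import Cfsg.Agent.H918.UProper

/-!
# S3499, row SU-C3: the case `n ≥ 5` (helper558)
-/

set_option autoImplicit false
set_option linter.unusedSectionVars false

namespace Cfsg.Agent.H558.EPU

open Cfsg Cfsg.Geo Matrix Module Cfsg.Agent.LieClassical.HermBasic Cfsg.Agent.H907 Cfsg.Agent.H918
open Cfsg.Agent.H284 Cfsg.Agent.H419.EP Cfsg.Agent.H950.EPU
open scoped MatrixGroups

section aux

variable {F : Type*} [Field F] {n r : ℕ} {K : Subalgebra F (Matrix (Fin n) (Fin n) F)}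

theorem mem_norm_of_commute {g : GL (Fin n) F} (hg : ∀ k ∈ K, (g : Matrix (Fin n) (Fin n) F) * k = k * g) :
    g ∈ subalgebraNormalizer K := by
  have hgg : (g : Matrix (Fin n) (Fin n) F) * ((g⁻¹ : GL (Fin n) F) : Matrix (Fin n) (Fin n) F) = 1 := by
    rw [← Units.val_mul, mul_inv_cancel, Units.val_one]
  have hgg' : ((g⁻¹ : GL (Fin n) F) : Matrix (Fin n) (Fin n) F) * (g : Matrix (Fin n) (Fin n) F) = 1 := by
    rw [← Units.val_mul, inv_mul_cancel, Units.val_one]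
  intro x
  constructor
  · intro hx
    rw [hg x hx, mul_assoc, hgg, mul_one]
    exact hx
  · intro hx
    have h1 := hg _ hx
    have h2 : ((g⁻¹ : GL (Fin n) F) : Matrix (Fin n) (Fin n) F) * ((g : Matrix (Fin n) (Fin n) F) *
        ((g : Matrix (Fin n) (Fin n) F) * x * ((g⁻¹ : GL (Fin n) F) : Matrix (Fin n) (Fin n) F))) =
        (g : Matrix (Fin n) (Fin n) F) * x * ((g⁻¹ : GL (Fin n) F) : Matrix (Fin n) (Fin n) F) := by
      rw [← mul_assoc, hgg', one_mul]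
    rw [h1, mul_assoc _ _ (g : Matrix (Fin n) (Fin n) F), hgg', mul_one, ← mul_assoc, hgg', one_mul] at h2
    rw [h2]
    exact hx

variable [Fintype F] {q : ℕ} (hF : Fintype.card F = q ^ 2)

include hF in
theorem rank_tv_sub_one {u : Fin n → F} {a : F} (hu : hermForm n F q u u = 0) (ha : a + a ^ q = 0) :
    ((tv hF u a hu ha : Matrix (Fin n) (Fin n) F) - 1).rank ≤ 1 := by
  rw [coe_tv, add_sub_cancel_left, ← Matrix.smul_vecMulVec]
  exact rank_one_le _ _

include hF in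
theorem tv_ne_one {u : Fin n → F} (hu0 : u ≠ 0) {a : F} (hu : hermForm n F q u u = 0) (ha : a + a ^ q = 0)
    (ha0 : a ≠ 0) : tv hF u a hu ha ≠ 1 := by
  intro h
  obtain ⟨v, hv⟩ := exists_herm_ne_zero hF hu0
  have hv' : hermForm n F q v u ≠ 0 := fun e => hv (herm_eq_zero_swap hF e)
  have h1 := tv_mulVec hF hu ha v
  rw [h, Units.val_one, Matrix.one_mulVec, left_eq_add] at h1
  rcases smul_eq_zero.1 h1 with h2 | h2
  · exact mul_ne_zero ha0 hv' h2
  · exact hu0 h2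

end aux

section big

variable {Q : Type*} [Group Q] [Finite Q] {A : Subgroup Q} {Γ : Subgroup (MulAut Q)}
  {F : Type*} [Field F] [Fintype F] {n q r : ℕ}
  {K : Subalgebra F (Matrix (Fin n) (Fin n) F)}

/-- `Â = N_S(K)` -/
theorem mem_hat_iff_norm (m : Model Q (Cfsg.GU n F q ⊓ Cfsg.Geo.specialLinear (Fin n) F)) (h : EPT A Γ)
    (hF : Fintype.card F = q ^ 2) (hn : 3 ≤ n) (h32 : ¬ (n = 3 ∧ q = 2)) (hr : 2 ≤ r) (hK : IsFieldSubalgebra r K)
    (hle : m.hat A ≤ subalgebraNormalizer K ⊓ Cfsg.GU n F q) (g : GL (Fin n) F) :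
    g ∈ m.hat A ↔ g ∈ subalgebraNormalizer K ∧ g ∈ SUg n F q := by
  have h1 := (m.isMaximalIn h.max).2 (subalgebraNormalizer K ⊓ SUg n F q)
    (le_inf (hle.trans inf_le_left) (m.hat_le A)) inf_le_right
  rcases h1 with h1 | h1
  · rw [← h1, Subgroup.mem_inf]
  · exfalso
    exact SUg_not_le_subalgebraNormalizer hF hn h32 hr hK (h1.ge.trans inf_le_left)

theorem big_false (m : Model Q (Cfsg.GU n F q ⊓ Cfsg.Geo.specialLinear (Fin n) F)) (h : EPT A Γ)
    (hF : Fintype.card F = q ^ 2) (hn : 5 ≤ n) (hr : r.Prime) (hr2 : Odd r) (hK : IsFieldSubalgebra r K)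
    (hadj : IsAdjointClosedFor (hermForm n F q) K)
    (hle : m.hat A ≤ subalgebraNormalizer K ⊓ Cfsg.GU n F q) : False := by
  have : Nonempty (Fin n) := ⟨⟨0, by omega⟩⟩
  have hr3 : 3 ≤ r := by
    have := hr.two_le
    rcases hr2 with ⟨j, hj⟩
    omega
  have hmem := mem_hat_iff_norm m h hF (by omega) (by omega) hr.two_le hK hle
  obtain ⟨u, hu0, hu, hugood, huy⟩ := exists_u hF hK hadj (by omega) hr hr3
  obtain ⟨a, ha0, ha⟩ := exists_trace_zero_ne hF
  have hxS : tv hF u a hu ha ∈ Cfsg.GU n F q ⊓ Cfsg.Geo.specialLinear (Fin n) F := tv_mem hF hu ha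
  have hx1 := rank_tv_sub_one hF hu ha
  have hxA : tv hF u a hu ha ∉ m.hat A := by
    intro hx
    exact tv_ne_one hF hu0 hu ha ha0 (eq_one_of_rank hK ((hmem _).1 hx).1 hx1 (by omega) (by omega))
  have hcx : ∀ g ∈ m.hat A, (tv hF u a hu ha)⁻¹ * g * tv hF u a hu ha ∈ m.hat A →
      g * tv hF u a hu ha = tv hF u a hu ha * g := by
    intro g hg hg'
    have h1 := eq_one_of_rank hK (h := g⁻¹ * ((tv hF u a hu ha)⁻¹ * g * tv hF u a hu ha))
      ((subalgebraNormalizer K).mul_mem ((subalgebraNormalizer K).inv_mem ((hmem g).1 hg).1) ((hmem _).1 hg').1)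
      (d := 2) ((rank_comm_sub_one _ _).trans (by omega)) (by omega) (by omega)
    have h2 : (tv hF u a hu ha)⁻¹ * g * tv hF u a hu ha = g := (inv_mul_eq_one.1 h1).symm
    rw [mul_assoc, inv_mul_eq_iff_eq_mul] at h2
    exact h2
  have hcent : ∀ y ∈ m.hat A, y * tv hF u a hu ha = tv hF u a hu ha * y →
      ∃ lam : F, (y : Matrix (Fin n) (Fin n) F) *ᵥ u = lam • u ∧
        ∀ k ∈ K, (y : Matrix (Fin n) (Fin n) F) * k = k * y := by
    intro y hy hyx
    have hyG : y ∈ Cfsg.GU n F q := (Subgroup.mem_inf.1 ((hmem y).1 hy).2).1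
    obtain ⟨lam, h1, h2⟩ := (comm_tv_iff hF hyG hu0 hu ha ha0).1 hyx
    exact ⟨lam, h2, huy y ((hmem y).1 hy).1 hyG lam h1 h2⟩
  have hdvd := Cfsg.Agent.H912.finrank_dvd_of_fieldSub hK
  rw [Fintype.card_fin] at hdvd
  rcases (Nat.le_of_dvd (by omega) hdvd).eq_or_lt with hrn | hrn
  · -- `n = r`
    obtain ⟨s, hs, hs'⟩ := exists_nonscalar h m hxS hxA
    obtain ⟨hsA, hsx⟩ := Subgroup.mem_inf.1 hs
    obtain ⟨lam, h1, h2⟩ := hcent s hsA (hcx s hsA (mem_cj.1 hsx))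
    apply hs'
    have hlam0 : lam ≠ 0 := by
      rintro rfl
      rw [zero_smul] at h1
      apply hu0
      have h3 : ((s⁻¹ : GL (Fin n) F) : Matrix (Fin n) (Fin n) F) *ᵥ ((s : Matrix (Fin n) (Fin n) F) *ᵥ u) = u := by
        rw [Matrix.mulVec_mulVec, ← Units.val_mul, inv_mul_cancel, Units.val_one, Matrix.one_mulVec]
      rw [← h3, h1, Matrix.mulVec_zero]
    rw [mem_scalars_iff]
    refine ⟨Units.mk0 lam hlam0, ?_⟩
    have htop : orb K u = ⊤ := by
      apply Submodule.eq_top_of_finrank_eq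
      rw [finrank_orb K (fun x hx h0 => isUnit_of_mem hK hx h0) hu0, hK.finrank_eq, finrank_fintype_fun_eq_card,
        Fintype.card_fin, hrn]
    apply ext_mv
    intro v
    have hv : v ∈ orb K u := by rw [htop]; trivial
    obtain ⟨k, hk, rfl⟩ := (mem_orb K).1 hv
    rw [Matrix.mulVec_mulVec, h2 k hk, ← Matrix.mulVec_mulVec, h1, Matrix.smul_mulVec, Matrix.one_mulVec,
      Matrix.mulVec_smul, Units.val_mk0]
  · -- `n > r`
    obtain ⟨g, hgS, hgK, k, hk, hgu, hku⟩ := exists_elem hF hK hadj hrn hr.two_le hu0 hugood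
    have hgG : g ∈ Cfsg.GU n F q := (Subgroup.mem_inf.1 hgS).1
    have hgA : g ∈ m.hat A := (hmem g).2 ⟨mem_norm_of_commute hgK, hgS⟩
    refine false_of_norm m h hxS hxA hcx hgA ?_ ?_
    · intro h1
      obtain ⟨lam, h2, h3⟩ := (comm_tv_iff hF hgG hu0 hu ha ha0).1 h1
      rw [hgu] at h3
      exact hku lam h3
    · intro y hy hyx
      have hyG : y ∈ Cfsg.GU n F q := (Subgroup.mem_inf.1 ((hmem y).1 hy).2).1
      obtain ⟨lam, hlam, hyu⟩ := (comm_tv_iff hF hyG hu0 hu ha ha0).1 hyx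
      have hyK := huy y ((hmem y).1 hy).1 hyG lam hlam hyu
      refine (comm_tv_iff hF ((Cfsg.GU n F q).mul_mem ((Cfsg.GU n F q).mul_mem hgG hyG)
        ((Cfsg.GU n F q).inv_mem hgG)) hu0 hu ha ha0).2 ⟨lam, hlam, ?_⟩
      have hk0 : k ≠ 0 := by
        rintro rfl
        apply hku 0
        rw [Matrix.zero_mulVec, zero_smul]
      obtain ⟨l, hl, hkl⟩ := hK.inv k hk hk0
      have hlk : l * k = 1 := by rw [hK.comm _ hl _ hk]; exact hkl
      have h4 : ((g⁻¹ : GL (Fin n) F) : Matrix (Fin n) (Fin n) F) *ᵥ u = l *ᵥ u := by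
        have h5 : (g : Matrix (Fin n) (Fin n) F) *ᵥ (l *ᵥ u) = u := by
          rw [Matrix.mulVec_mulVec, hgK l hl, ← Matrix.mulVec_mulVec, hgu, Matrix.mulVec_mulVec, hlk,
            Matrix.one_mulVec]
        conv_lhs => rw [← h5]
        rw [Matrix.mulVec_mulVec, ← Units.val_mul, inv_mul_cancel, Units.val_one, Matrix.one_mulVec]
      rw [Units.val_mul, Units.val_mul, ← Matrix.mulVec_mulVec, h4, ← Matrix.mulVec_mulVec, Matrix.mulVec_mulVec u,
        hyK l hl, ← Matrix.mulVec_mulVec, hyu, Matrix.mulVec_smul, Matrix.mulVec_smul, Matrix.mulVec_mulVec, hgK l hl,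
        ← Matrix.mulVec_mulVec, hgu, Matrix.mulVec_mulVec, hlk, Matrix.one_mulVec]

end big

end Cfsg.Agent.H558.EPU
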