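import Mathlib
import Cfsg.Agent.H914.Uni
import Cfsg.Agent.LieClassical.HermBasic

/-!
# S3499, row SU-C3: the choice of the isotropic vector (helper558)

`L/F` of prime degree `r ≥ 3`, `σ` an involution of `L` inducing `x ↦ x ^ q` on `F`, `φ` a functional with
`φ (σ x) = φ (x) ^ q`: a `κ ≠ 0` with `φ (κ σ κ) = 0` such that no nontrivial automorphism `τ` of `L/F` satisfies
`φ (κ σ κ τ k) = φ (κ σ κ k)` for all `k`.
-/

set_option autoImplicit false
set_option linter.unusedSectionVars false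

namespace Cfsg.Agent.H558.EPU

open Module Cfsg.Agent.LieClassical.HermBasic

section choice

variable {F L : Type*} [Field F] [Fintype F] [Field L] [Finite L] [Algebra F L] [FiniteDimensional F L] {q r : ℕ}
  (hF : Fintype.card F = q ^ 2) (hr : r.Prime) (hr3 : 3 ≤ r) (hfr : finrank F L = r)
  (σ : L ≃+* L) (hσ2 : ∀ a, σ (σ a) = a) (hσF : ∀ a : F, σ (algebraMap F L a) = algebraMap F L (a ^ q))
  (φ : L →ₗ[F] F) (hφ1 : φ 1 ≠ 0) (hφ : ∀ x, φ (σ x) = (φ x) ^ q)

/-- the invariant elements -/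
def invS (φ : L →ₗ[F] F) : Submodule F L where
  carrier := {c | ∀ τ : L ≃ₐ[F] L, ∀ k, φ (c * τ k) = φ (c * k)}
  add_mem' {a b} ha hb τ k := by rw [add_mul, add_mul, map_add, map_add, ha, hb]
  zero_mem' τ k := by rw [zero_mul, zero_mul]
  smul_mem' c a ha τ k := by rw [smul_mul_assoc, smul_mul_assoc, map_smul, map_smul, ha]

include hφ1 in
omit [Fintype F] [Finite L] [FiniteDimensional F L] in
theorem eq_zero_of_forall {a : L} (h : ∀ l, φ (a * l) = 0) : a = 0 := by
  by_contra h0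
  apply hφ1
  rw [← mul_inv_cancel₀ h0]
  exact h _

include hφ1 in
theorem finrank_invS : finrank F (invS φ) ≤ 1 := by
  by_cases h0 : invS φ = ⊥
  · rw [h0, finrank_bot]
    exact zero_le_one
  obtain ⟨c, hc, hc0⟩ := Submodule.exists_mem_ne_zero_of_ne_bot h0
  refine finrank_le_one (⟨c, hc⟩ : invS φ) ?_
  rintro ⟨d, hd⟩
  have hgal : IsGalois F L := inferInstance
  have h1 : d * c⁻¹ ∈ Set.range (algebraMap F L) := by
    rw [IsGalois.mem_range_algebraMap_iff_fixed]
    intro τ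
    have h2 : c * (d * c⁻¹ - τ (d * c⁻¹)) = 0 := by
      apply eq_zero_of_forall φ hφ1
      intro l
      obtain ⟨k, rfl⟩ := τ.surjective l
      have h3 := hd τ k
      have h4 := hc τ ((d * c⁻¹) * k)
      have e1 : c * ((d * c⁻¹) * k) = d * k := by field_simp
      rw [e1, map_mul τ, ← h3] at h4
      have e2 : c * (d * c⁻¹ - τ (d * c⁻¹)) * τ k = d * τ k - c * (τ (d * c⁻¹) * τ k) := by
        field_simp
      rw [e2, map_sub, h4, sub_self]
    rcases mul_eq_zero.1 h2 with h3 | h3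
    · exact absurd h3 hc0
    · exact (sub_eq_zero.1 h3).symm
  obtain ⟨a, ha⟩ := h1
  refine ⟨a, Subtype.ext ?_⟩
  show a • c = d
  rw [Algebra.smul_def, ha, inv_mul_cancel_right₀ hc0]

include hr hfr in
theorem mem_invS_of {c : L} {τ : L ≃ₐ[F] L} (hτ : τ ≠ 1) (h : ∀ k, φ (c * τ k) = φ (c * k)) : c ∈ invS φ := by
  have hgal : IsGalois F L := inferInstance
  have hcard : Nat.card (L ≃ₐ[F] L) = r := by rw [IsGalois.card_aut_eq_finrank, hfr]
  have : Fact r.Prime := ⟨hr⟩
  intro τ' k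
  have h1 : τ' ∈ Subgroup.zpowers τ := mem_zpowers_of_prime_card hcard hτ
  have hf : Finite (L ≃ₐ[F] L) := Nat.finite_of_card_ne_zero (by rw [hcard]; exact hr.ne_zero)
  rw [← mem_powers_iff_mem_zpowers] at h1
  obtain ⟨j, rfl⟩ := h1
  show φ (c * (τ ^ j) k) = φ (c * k)
  induction j generalizing k with
  | zero => rw [pow_zero, AlgEquiv.one_apply]
  | succ j ih => rw [pow_succ, AlgEquiv.mul_apply, ih, h]

include hF hr hr3 hfr hσ2 hσF hφ1 hφ in
/-- **the choice** -/
theorem exists_choice : ∃ κ : L, κ ≠ 0 ∧ φ (κ * σ κ) = 0 ∧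
    ∀ τ : L ≃ₐ[F] L, (∀ k, φ (κ * σ κ * τ k) = φ (κ * σ κ * k)) → τ = 1 := by
  have hσ1 : σ ≠ RingEquiv.refl L := by
    intro h
    obtain ⟨c, hc⟩ := exists_not_fixed hF
    apply hc
    apply (algebraMap F L).injective
    rw [← hσF, h]
    rfl
  obtain ⟨c, hcσ, hc0, hcI⟩ : ∃ c : L, σ c = c ∧ φ c = 0 ∧ c ∉ invS φ := by
    by_contra hcon
    push Not at hcon
    obtain ⟨ζ, hζ⟩ := exists_not_fixed hF
    have hζ' : ζ - ζ ^ q ≠ 0 := fun e => hζ (sub_eq_zero.1 e).symm
    have hle : LinearMap.ker φ ≤ invS φ := by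
      intro c hc
      rw [LinearMap.mem_ker] at hc
      obtain ⟨b, hb⟩ : ∃ b, b = (ζ - ζ ^ q)⁻¹ • (c - σ c) := ⟨_, rfl⟩
      have hζζ : (ζ - ζ ^ q) ^ q = -(ζ - ζ ^ q) := by
        rw [sub_pow_q hF, pow_q_pow_q hF]
        ring
      have hσb : σ b = b := by
        rw [hb, Algebra.smul_def, map_mul, hσF, map_sub, hσ2, inv_pow, hζζ, inv_neg, map_neg]
        ring
      have hσa : σ (c - ζ • b) = c - ζ • b := by
        have e1 : c - σ c = (ζ - ζ ^ q) • b := by
          rw [hb, smul_smul, mul_inv_cancel₀ hζ', one_smul]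
        rw [map_sub, Algebra.smul_def, map_mul, hσF, hσb, ← Algebra.smul_def, ← Algebra.smul_def]
        rw [sub_smul] at e1
        linear_combination (exp := 1) -e1
      have hφb0 : (φ b) ^ q = φ b := by rw [← hφ, hσb]
      have hφa0 : (φ (c - ζ • b)) ^ q = φ (c - ζ • b) := by rw [← hφ, hσa]
      have e2 : φ (c - ζ • b) = -(ζ * φ b) := by
        rw [map_sub, hc, map_smul, smul_eq_mul, zero_sub]
      have hφb : φ b = 0 := by
        rw [e2, neg_pow_q hF, mul_pow, hφb0, neg_inj] at hφa0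
        have : (ζ - ζ ^ q) * φ b = 0 := by linear_combination -hφa0
        exact (mul_eq_zero.1 this).resolve_left hζ'
      have hφa : φ (c - ζ • b) = 0 := by rw [e2, hφb, mul_zero, neg_zero]
      have e3 : c = (c - ζ • b) + ζ • b := (sub_add_cancel _ _).symm
      rw [e3]
      exact (invS φ).add_mem (hcon _ hσa hφa) ((invS φ).smul_mem ζ (hcon _ hσb hφb))
    have h1 := Submodule.finrank_mono hle
    have h2 := finrank_invS φ hφ1
    have h3 := LinearMap.finrank_range_add_finrank_ker φ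
    have h4 : finrank F (LinearMap.range φ) ≤ 1 := by
      have := Submodule.finrank_le (LinearMap.range φ)
      rwa [finrank_self] at this
    omega
  obtain ⟨κ, hκ⟩ := Cfsg.Agent.H914.exists_mul_sigma_eq hσ1 hσ2 hcσ
  refine ⟨κ, ?_, by rw [hκ]; exact hc0, ?_⟩
  · rintro rfl
    rw [zero_mul] at hκ
    rw [← hκ] at hcI
    exact hcI (invS φ).zero_mem
  · intro τ hτ
    by_contra h1
    rw [hκ] at hτ
    exact hcI (mem_invS_of hr hfr φ h1 hτ)

end choice

end Cfsg.Agent.H558.EPU
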