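import Cfsg.Agent.H558.EPU.Norm1

/-!
# S3499, row SU-C3: centralisers of transvections in the normaliser of a field subalgebra (helper558)

* `comm_tv_iff`: `y ∈ GU` commutes with `tv u a` iff `y u = λ u`, `λ λ^q = 1`;
* `exists_u`: an isotropic `u` such that `y ∈ GU` normalising `K` with `y u = λ u`, `λ λ^q = 1`, commutes with `K`.
-/

set_option autoImplicit false
set_option linter.unusedSectionVars false

namespace Cfsg.Agent.H558.EPU

open Cfsg Cfsg.Geo Matrix Module Cfsg.Agent.LieClassical.HermBasic Cfsg.Agent.H907 Cfsg.Agent.H918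
open scoped MatrixGroups

theorem ext_mv {F : Type*} [Field F] {n : ℕ} {A B : Matrix (Fin n) (Fin n) F} (h : ∀ x, A *ᵥ x = B *ᵥ x) : A = B :=
  Matrix.mulVec_injective (funext h)

section comm

variable {F : Type*} [Field F] [Fintype F] {n q : ℕ} (hF : Fintype.card F = q ^ 2)

include hF

theorem comm_tv_iff {y : GL (Fin n) F} (hy : y ∈ Cfsg.GU n F q) {u : Fin n → F} (hu0 : u ≠ 0) {a : F}
    (hu : hermForm n F q u u = 0) (ha : a + a ^ q = 0) (ha0 : a ≠ 0) :
    y * tv hF u a hu ha = tv hF u a hu ha * y ↔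
      ∃ lam : F, lam * lam ^ q = 1 ∧ (y : Matrix (Fin n) (Fin n) F) *ᵥ u = lam • u := by
  obtain ⟨v, hv⟩ := exists_herm_ne_zero hF hu0
  have hv' : hermForm n F q v u ≠ 0 := fun e => hv (herm_eq_zero_swap hF e)
  constructor
  · intro h
    have h1 := congrArg (fun z : GL (Fin n) F => (z : Matrix (Fin n) (Fin n) F) *ᵥ v) h
    simp only [Units.val_mul] at h1
    rw [← Matrix.mulVec_mulVec, ← Matrix.mulVec_mulVec, tv_mulVec, tv_mulVec, Matrix.mulVec_add, Matrix.mulVec_smul]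
      at h1
    have h2 := add_left_cancel h1
    have h3 : (y : Matrix (Fin n) (Fin n) F) *ᵥ u =
        (hermForm n F q ((y : Matrix (Fin n) (Fin n) F) *ᵥ v) u / hermForm n F q v u) • u := by
      have h4 := congrArg (fun z => (a * hermForm n F q v u)⁻¹ • z) h2
      simp only [smul_smul] at h4
      rw [inv_mul_cancel₀ (mul_ne_zero ha0 hv'), one_smul] at h4
      rw [h4]
      congr 1
      field_simp
    refine ⟨_, ?_, h3⟩
    obtain ⟨lam, hlam⟩ : ∃ lam, lam = hermForm n F q ((y : Matrix (Fin n) (Fin n) F) *ᵥ v) u / hermForm n F q v u :=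
      ⟨_, rfl⟩
    rw [← hlam] at h3 ⊢
    have h5 : hermForm n F q ((y : Matrix (Fin n) (Fin n) F) *ᵥ v) u = lam * hermForm n F q v u := by
      rw [hlam, div_mul_cancel₀ _ hv']
    have h6 := H918.mem_GU.1 hy v u
    rw [h3, herm_smul_right, h5] at h6
    have h7 : (lam * lam ^ q - 1) * hermForm n F q v u = 0 := by linear_combination h6
    exact sub_eq_zero.1 ((mul_eq_zero.1 h7).resolve_right hv')
  · rintro ⟨lam, hlam, h⟩
    apply Units.ext
    apply ext_mv
    intro x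
    rw [Units.val_mul, Units.val_mul, ← Matrix.mulVec_mulVec, ← Matrix.mulVec_mulVec, tv_mulVec, tv_mulVec,
      Matrix.mulVec_add, Matrix.mulVec_smul, h, smul_smul]
    congr 2
    have h6 := H918.mem_GU.1 hy x u
    rw [h, herm_smul_right] at h6
    rw [← h6]
    linear_combination a * hermForm n F q ((y : Matrix (Fin n) (Fin n) F) *ᵥ x) u * hlam

end comm

section adj

variable {F : Type*} [Field F] [Fintype F] {n q r : ℕ} (hF : Fintype.card F = q ^ 2)
  {K : Subalgebra F (Matrix (Fin n) (Fin n) F)} (hK : IsFieldSubalgebra r K)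
  (hadj : IsAdjointClosedFor (hermForm n F q) K)

/-- the adjoint on `K` -/
def ctK (hF : Fintype.card F = q ^ 2) (hK : IsFieldSubalgebra r K) (hadj : IsAdjointClosedFor (hermForm n F q) K) :
    K ≃+* K where
  toFun := fun x => ⟨ct q (x : Matrix (Fin n) (Fin n) F), ct_mem hF hadj x.2⟩
  invFun := fun x => ⟨ct q (x : Matrix (Fin n) (Fin n) F), ct_mem hF hadj x.2⟩
  left_inv := fun x => Subtype.ext (ct_ct hF _)
  right_inv := fun x => Subtype.ext (ct_ct hF _)
  map_mul' := fun x y => Subtype.ext (by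
    show ct q ((x : Matrix (Fin n) (Fin n) F) * (y : Matrix (Fin n) (Fin n) F)) =
      ct q (x : Matrix (Fin n) (Fin n) F) * ct q (y : Matrix (Fin n) (Fin n) F)
    rw [hK.comm _ x.2 _ y.2, ct_mul hF])
  map_add' := fun x y => Subtype.ext (ct_add hF _ _)

theorem ctK_coe (x : K) : ((ctK hF hK hadj x : K) : Matrix (Fin n) (Fin n) F) = ct q (x : Matrix (Fin n) (Fin n) F) :=
  rfl

/-- the functional `k ↦ f(k w, w)` -/
def phiK (q : ℕ) (K : Subalgebra F (Matrix (Fin n) (Fin n) F)) (w : Fin n → F) : K →ₗ[F] F where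
  toFun := fun k => hermForm n F q ((k : Matrix (Fin n) (Fin n) F) *ᵥ w) w
  map_add' := fun a b => by
    rw [Subalgebra.coe_add, Matrix.add_mulVec, herm_add_left]
  map_smul' := fun c a => by
    rw [Subalgebra.coe_smul, Matrix.smul_mulVec, herm_smul_left, RingHom.id_apply, smul_eq_mul]

theorem phiK_apply (w : Fin n → F) (k : K) :
    phiK q K w k = hermForm n F q ((k : Matrix (Fin n) (Fin n) F) *ᵥ w) w := rfl

include hF in
theorem phiK_ct (w : Fin n → F) (k : K) : phiK q K w (ctK hF hK hadj k) = (phiK q K w k) ^ q := by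
  rw [phiK_apply, phiK_apply, ctK_coe, ← herm_swap hF, herm_ct hF, ct_ct hF]

include hF hK hadj in
/-- **the vector `u`** -/
theorem exists_u (hn : 0 < n) (hr : r.Prime) (hr3 : 3 ≤ r) :
    ∃ u : Fin n → F, u ≠ 0 ∧ hermForm n F q u u = 0 ∧
      (∃ k ∈ K, hermForm n F q (k *ᵥ u) u ≠ 0) ∧
      ∀ y ∈ subalgebraNormalizer K, y ∈ Cfsg.GU n F q → ∀ lam : F, lam * lam ^ q = 1 →
        (y : Matrix (Fin n) (Fin n) F) *ᵥ u = lam • u → ∀ k ∈ K, (y : Matrix (Fin n) (Fin n) F) * k = k * y := by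
  have : Nonempty (Fin n) := ⟨⟨0, hn⟩⟩
  let _ : Field K := (isField_of hK).toField
  have hfin : Finite K := Module.finite_of_finite F
  obtain ⟨e0, he0⟩ : ∃ e0 : Fin n → F, e0 = Pi.single ⟨0, hn⟩ 1 := ⟨_, rfl⟩
  have hφ1 : phiK q K e0 1 ≠ 0 := by
    rw [phiK_apply, Subalgebra.coe_one, Matrix.one_mulVec, he0, herm_single_left, Pi.single_eq_same, one_pow,
      one_mul]
    exact one_ne_zero
  obtain ⟨κ, hκ0, hκ1, hκ2⟩ := exists_choice hF hr hr3 hK.finrank_eq (ctK hF hK hadj)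
    (fun a => Subtype.ext (ct_ct hF _)) (fun a => Subtype.ext (by
      rw [ctK_coe]
      show ct q (algebraMap F (Matrix (Fin n) (Fin n) F) a) = algebraMap F (Matrix (Fin n) (Fin n) F) (a ^ q)
      rw [Algebra.algebraMap_eq_smul_one, Algebra.algebraMap_eq_smul_one, ct_smul_one hF])) (phiK q K e0) hφ1
      (phiK_ct hF hK hadj e0)
  have key : ∀ k : K, hermForm n F q ((k : Matrix (Fin n) (Fin n) F) *ᵥ ((κ : Matrix (Fin n) (Fin n) F) *ᵥ e0))
      ((κ : Matrix (Fin n) (Fin n) F) *ᵥ e0) = phiK q K e0 (κ * ctK hF hK hadj κ * k) := by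
    intro k
    have e1 : hermForm n F q ((k : Matrix (Fin n) (Fin n) F) *ᵥ ((κ : Matrix (Fin n) (Fin n) F) *ᵥ e0))
      ((κ : Matrix (Fin n) (Fin n) F) *ᵥ e0) =
      hermForm n F q (ct q (κ : Matrix (Fin n) (Fin n) F) *ᵥ ((k : Matrix (Fin n) (Fin n) F) *ᵥ
        ((κ : Matrix (Fin n) (Fin n) F) *ᵥ e0))) e0 := by
      conv_rhs => rw [herm_ct hF, ct_ct hF]
    rw [e1, Matrix.mulVec_mulVec, Matrix.mulVec_mulVec, phiK_apply]
    have e2 : κ * ctK hF hK hadj κ * k = ctK hF hK hadj κ * k * κ := by ring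
    rw [e2]
    rfl
  refine ⟨(κ : Matrix (Fin n) (Fin n) F) *ᵥ e0, ?_, ?_, ?_, ?_⟩
  · intro h0
    apply hφ1
    have e1 : (κ⁻¹ * κ : K) = 1 := inv_mul_cancel₀ hκ0
    have e2 : ((κ⁻¹ : K) : Matrix (Fin n) (Fin n) F) * (κ : Matrix (Fin n) (Fin n) F) = 1 := congrArg Subtype.val e1
    have e3 : e0 = 0 := by
      rw [← Matrix.one_mulVec e0, ← e2, ← Matrix.mulVec_mulVec, h0, Matrix.mulVec_zero]
    rw [phiK_apply, e3, Matrix.mulVec_zero, herm_zero_left]
  · have h1 := key 1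
    rw [Subalgebra.coe_one, Matrix.one_mulVec, mul_one, hκ1] at h1
    exact h1
  · by_contra hcon
    push Not at hcon
    apply hκ0
    have h1 : κ * ctK hF hK hadj κ = 0 := by
      apply eq_zero_of_forall _ hφ1
      intro l
      rw [← key]
      exact hcon l l.2
    rcases mul_eq_zero.1 h1 with h2 | h2
    · exact h2
    · exact (map_eq_zero_iff _ (ctK hF hK hadj).injective).1 h2
  · intro y hyN hyG lam hlam hyu
    have hN : H912.NormAlg (subalgebraNormalizer K) K := fun _ hh a ha => (hh a).mp ha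
    have h1 := hκ2 (H912.conjSub hN ⟨y, hyN⟩) (by
      intro k
      rw [← key, ← key, H912.conjSub_coe]
      have hlam0 : lam ≠ 0 := by
        rintro rfl
        rw [zero_mul] at hlam
        exact zero_ne_one hlam
      obtain ⟨y', hy'⟩ : ∃ y', y' = ((y⁻¹ : GL (Fin n) F) : Matrix (Fin n) (Fin n) F) := ⟨_, rfl⟩
      have hyy : y' * (y : Matrix (Fin n) (Fin n) F) = 1 := by rw [hy', ← Units.val_mul, inv_mul_cancel, Units.val_one]
      have hyy2 : (y : Matrix (Fin n) (Fin n) F) * y' = 1 := by rw [hy', ← Units.val_mul, mul_inv_cancel, Units.val_one]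
      have hy'u : y' *ᵥ ((κ : Matrix (Fin n) (Fin n) F) *ᵥ e0) = lam⁻¹ • ((κ : Matrix (Fin n) (Fin n) F) *ᵥ e0) := by
        have e1 : (κ : Matrix (Fin n) (Fin n) F) *ᵥ e0 = lam⁻¹ • ((y : Matrix (Fin n) (Fin n) F) *ᵥ
            ((κ : Matrix (Fin n) (Fin n) F) *ᵥ e0)) := by
          rw [hyu, smul_smul, inv_mul_cancel₀ hlam0, one_smul]
        conv_lhs => rw [e1]
        rw [Matrix.mulVec_smul, Matrix.mulVec_mulVec, hyy, Matrix.one_mulVec]
      show hermForm n F q (((y : Matrix (Fin n) (Fin n) F) * (k : Matrix (Fin n) (Fin n) F) *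
        ((y⁻¹ : GL (Fin n) F) : Matrix (Fin n) (Fin n) F)) *ᵥ ((κ : Matrix (Fin n) (Fin n) F) *ᵥ e0)) _ = _
      rw [← hy', ← Matrix.mulVec_mulVec, ← Matrix.mulVec_mulVec, hy'u, Matrix.mulVec_smul, Matrix.mulVec_smul,
        herm_smul_left]
      have e2 : hermForm n F q ((y : Matrix (Fin n) (Fin n) F) *ᵥ ((k : Matrix (Fin n) (Fin n) F) *ᵥ
          ((κ : Matrix (Fin n) (Fin n) F) *ᵥ e0))) ((κ : Matrix (Fin n) (Fin n) F) *ᵥ e0) =
          lam * hermForm n F q ((k : Matrix (Fin n) (Fin n) F) *ᵥ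
          ((κ : Matrix (Fin n) (Fin n) F) *ᵥ e0)) ((κ : Matrix (Fin n) (Fin n) F) *ᵥ e0) := by
        have e3 := H918.mem_GU.1 hyG ((k : Matrix (Fin n) (Fin n) F) *ᵥ ((κ : Matrix (Fin n) (Fin n) F) *ᵥ e0))
          ((κ : Matrix (Fin n) (Fin n) F) *ᵥ e0)
        rw [← e3, hyu, herm_smul_right]
        linear_combination (-hermForm n F q ((y : Matrix (Fin n) (Fin n) F) *ᵥ ((k : Matrix (Fin n) (Fin n) F) *ᵥ
          ((κ : Matrix (Fin n) (Fin n) F) *ᵥ e0))) ((κ : Matrix (Fin n) (Fin n) F) *ᵥ e0)) * hlam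
      rw [e2, ← mul_assoc, inv_mul_cancel₀ hlam0, one_mul])
    intro k hk
    have h2 := H912.conjSub_coe hN ⟨y, hyN⟩ ⟨k, hk⟩
    rw [h1] at h2
    have h3 : k = (y : Matrix (Fin n) (Fin n) F) * k * ((y⁻¹ : GL (Fin n) F) : Matrix (Fin n) (Fin n) F) := h2
    conv_rhs => rw [h3]
    rw [mul_assoc, ← Units.val_mul, inv_mul_cancel, Units.val_one, mul_one]

end adj

end Cfsg.Agent.H558.EPU
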