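import Cfsg.Agent.H284.EP.TForm

/-!
# S3499: extremely primitive groups whose point stabiliser in the socle is metacyclic (helper558)

`count_le`: `T ≤ A` abelian without elements of order three, `a ^ 3 ∈ T` for `a ∈ A`, `|A| ≤ 3 |T|`: `4 |Q| ≤ |A| ^ 3`.
-/

set_option autoImplicit false
set_option linter.unusedSectionVars false

namespace Cfsg.Agent.H558.EPU

open Subgroup Cfsg.Agent.H284

variable {Q : Type*} [Group Q] [Finite Q] {A : Subgroup Q} {Γ : Subgroup (MulAut Q)} (h : EPT A Γ)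

include h in
theorem count_le {T : Subgroup Q} (hTA : T ≤ A) (hab : ∀ a ∈ T, ∀ b ∈ T, a * b = b * a)
    (h3 : ∀ t ∈ T, t ^ 3 = 1 → t = 1) (hcube : ∀ a ∈ A, a ^ 3 ∈ T) (hcard : Nat.card A ≤ 3 * Nat.card T) :
    4 * Nat.card Q ≤ Nat.card A ^ 3 := by
  classical
  have hcop : ∀ t ∈ T, Nat.Coprime 3 (orderOf t) := by
    intro t ht
    rw [Nat.Prime.coprime_iff_not_dvd Nat.prime_three]
    rintro ⟨k, hk⟩
    have hpos := orderOf_pos t
    have h1 : (t ^ k) ^ 3 = 1 := by rw [← pow_mul, mul_comm, ← hk, pow_orderOf_eq_one]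
    have h2 := h3 _ (T.pow_mem ht k) h1
    have h4 := orderOf_dvd_of_pow_eq_one h2
    have h5 := Nat.le_of_dvd (by
      rcases Nat.eq_zero_or_pos k with h6 | h6
      · rw [h6] at hk; omega
      · exact h6) h4
    rw [hk] at h5
    have : 0 < k := by
      rcases Nat.eq_zero_or_pos k with h6 | h6
      · rw [h6] at hk; omega
      · exact h6
    omega
  have hmemT : ∀ a ∈ A, Nat.Coprime 3 (orderOf a) → a ∈ T := by
    intro a ha hc
    obtain ⟨m, hm⟩ := exists_pow_eq_self_of_coprime (x := a) (n := 3) hc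
    rw [← hm]
    exact T.pow_mem (hcube a ha) m
  have hinv : ∀ σ ∈ Γ, ∀ k ∈ T, σ k ∈ T := by
    intro σ hσ k hk
    apply hmemT _ ((h.inv σ hσ k).2 (hTA hk))
    have h1 : orderOf (σ k) = orderOf k := orderOf_injective σ.toMonoidHom σ.injective k
    rw [h1]
    exact hcop k hk
  obtain ⟨x0, hx0⟩ : ∃ x, x ∉ A := by
    by_contra hcon
    push Not at hcon
    exact h.max.1 ((Subgroup.eq_top_iff' A).2 hcon)
  by_cases hT : T = ⊥
  · exfalso
    have hp : IsPGroup 3 A := by
      intro a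
      refine ⟨1, Subtype.ext ?_⟩
      have := hcube a a.2
      rw [hT, mem_bot] at this
      rw [pow_one]
      exact this
    have : Fact (Nat.Prime 3) := ⟨Nat.prime_three⟩
    have hnil : Group.IsNilpotent A := hp.isNilpotent
    have h1 := h.nilp A le_rfl (fun σ hσ k hk => (h.inv σ hσ k).2 hk) hnil h.ne
    exact h.M0 x0 hx0 (h1.2.2.2.1 x0 hx0).1
  have hnilT : Group.IsNilpotent T := by
    let _ : CommGroup T := { (inferInstance : Group T) with mul_comm := fun a b => Subtype.ext (hab a a.2 b b.2) }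
    infer_instance
  have h1 := (h.nilp T hTA hinv hnilT hT).2.2.2.1
  have hM : ∀ x, x ∉ A → ∀ g ∈ A ⊓ cj x A, g ≠ 1 → g ^ 3 = 1 ∧ A ⊓ cj x A = zpowers g := by
    intro x hx g hg hg1
    obtain ⟨h4, h5⟩ := h1 x hx
    have hg3 : g ^ 3 = 1 := by
      have : g ^ 3 ∈ T ⊓ cj x A := ⟨hcube g (mem_inf.1 hg).1, (cj x A).pow_mem (mem_inf.1 hg).2 3⟩
      rwa [h4, mem_bot] at this
    refine ⟨hg3, ?_⟩
    have : Fact (Nat.Prime 3) := ⟨Nat.prime_three⟩
    have ho : orderOf g = 3 := orderOf_eq_prime hg3 hg1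
    have hTpos : 0 < Nat.card T := Nat.card_pos
    have hM3 : Nat.card (A ⊓ cj x A : Subgroup Q) ≤ 3 := by
      rw [← h5, mul_comm 3] at hcard
      exact Nat.le_of_mul_le_mul_left hcard hTpos
    symm
    apply Subgroup.eq_of_le_of_card_ge
    · rw [zpowers_le]
      exact hg
    · rw [Nat.card_zpowers, ho]
      exact hM3
  -- the count
  let 𝓜 : Set (Subgroup Q) := {M : Subgroup Q | ∃ x, x ∉ A ∧ M = A ⊓ cj x A}
  have hgen : ∀ M : 𝓜, ∃ g : A, (g : Q) ≠ 1 ∧ (g : Q) ^ 3 = 1 ∧ (M : Subgroup Q) = zpowers (g : Q) := by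
    rintro ⟨_, x, hx, rfl⟩
    obtain ⟨g, hg⟩ := Subgroup.ne_bot_iff_exists_ne_one.1 (h.M0 x hx)
    have hg1 : (g : Q) ≠ 1 := fun e => hg (Subtype.ext e)
    exact ⟨⟨g, (mem_inf.1 g.2).1⟩, hg1, hM x hx g g.2 hg1⟩
  choose gen hgen1 hgen3 hgenM using hgen
  have hinj : Function.Injective (fun p : 𝓜 × Bool => if p.2 then gen p.1 else (gen p.1)⁻¹) := by
    rintro ⟨M, b⟩ ⟨M', b'⟩ e
    have hz : ∀ (M : 𝓜) (b : Bool), zpowers (((if b then gen M else (gen M)⁻¹ : A)) : Q) = (M : Subgroup Q) := by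
      intro M b
      cases b
      · rw [if_neg (by simp), hgenM M]
        show zpowers ((gen M : Q)⁻¹) = _
        rw [zpowers_inv]
      · rw [if_pos rfl, hgenM M]
    have e' : (if b then gen M else (gen M)⁻¹) = (if b' then gen M' else (gen M')⁻¹) := e
    have hMM : M = M' := by
      apply Subtype.ext
      rw [← hz M b, ← hz M' b', e']
    subst hMM
    have hne : gen M ≠ (gen M)⁻¹ := by
      intro e2
      have e3 : (gen M : Q) = (gen M : Q)⁻¹ := congrArg Subtype.val e2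
      have e4 : (gen M : Q) ^ 2 = 1 := by
        rw [pow_two]
        nth_rewrite 1 [e3]
        rw [inv_mul_cancel]
      apply hgen1 M
      have e5 := hgen3 M
      rw [pow_succ, e4, one_mul] at e5
      exact e5
    cases b <;> cases b'
    · rfl
    · exfalso
      simp only [if_true, Bool.false_eq_true, if_false] at e'
      exact hne e'.symm
    · exfalso
      simp only [if_true, Bool.false_eq_true, if_false] at e'
      exact hne e'
    · rfl
  have hfin : Finite 𝓜 := Subtype.finite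
  have h2N : 2 * 𝓜.ncard ≤ Nat.card A := by
    have h6 := Nat.card_le_card_of_injective _ hinj
    rw [Nat.card_prod, Nat.card_eq_fintype_card (α := Bool), Fintype.card_bool, mul_comm, Nat.card_coe_set_eq] at h6
    exact h6
  have h7 : A.index ≤ 𝓜.ncard ^ 2 := h.index_le
  calc 4 * Nat.card Q = 4 * (Nat.card A * A.index) := by rw [Subgroup.card_mul_index]
    _ ≤ 4 * (Nat.card A * 𝓜.ncard ^ 2) := Nat.mul_le_mul_left _ (Nat.mul_le_mul_left _ h7)
    _ = Nat.card A * (2 * 𝓜.ncard) ^ 2 := by ring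
    _ ≤ Nat.card A * (Nat.card A) ^ 2 := Nat.mul_le_mul_left _ (Nat.pow_le_pow_left h2N 2)
    _ = Nat.card A ^ 3 := by ring

end Cfsg.Agent.H558.EPU
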