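import Cfsg.Agent.H558.EPU.Choice
import Cfsg.Agent.H907.FieldAdj
import Cfsg.Agent.H912.Core4

/-!
# S3499, row SU-C3: elements of the normaliser of a field subalgebra close to `1` (helper558)

`eq_one_of_rank`: `h` normalising `K`, `rank (h - 1) ≤ d`, `2 d < n`, `d < r`: `h = 1`.
-/

set_option autoImplicit false
set_option linter.unusedSectionVars false

namespace Cfsg.Agent.H558.EPU

open Cfsg Cfsg.Geo Matrix Module
open scoped MatrixGroups

section rank

theorem rank_sub_le2 {ι : Type*} [Fintype ι] [DecidableEq ι] {F : Type*} [Field F] (A B : Matrix ι ι F) :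
    (A - B).rank ≤ A.rank + B.rank := by
  have h1 : LinearMap.range (A - B).mulVecLin ≤ LinearMap.range A.mulVecLin ⊔ LinearMap.range B.mulVecLin := by
    rintro _ ⟨v, rfl⟩
    rw [Matrix.mulVecLin_apply, Matrix.sub_mulVec, sub_eq_add_neg]
    exact Submodule.add_mem_sup ⟨v, rfl⟩ (Submodule.neg_mem _ ⟨v, rfl⟩)
  exact (Submodule.finrank_mono h1).trans (Submodule.finrank_add_le_finrank_add_finrank _ _)

theorem rank_one_le {ι : Type*} [Fintype ι] [DecidableEq ι] {F : Type*} [Field F] (v w : ι → F) :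
    (Matrix.vecMulVec v w).rank ≤ 1 := Matrix.rank_vecMulVec_le v w

/-- the rank of a commutator minus `1` -/
theorem rank_comm_sub_one {ι : Type} [Fintype ι] [DecidableEq ι] {F : Type*} [Field F] (x g : GL ι F) :
    (((g⁻¹ * (x⁻¹ * g * x) : GL ι F) : Matrix ι ι F) - 1).rank ≤ 2 * ((x : Matrix ι ι F) - 1).rank := by
  obtain ⟨X, hX⟩ : ∃ X, X = (x : Matrix ι ι F) - 1 := ⟨_, rfl⟩
  obtain ⟨g', hg'⟩ : ∃ g' : Matrix ι ι F, g' = ((g⁻¹ : GL ι F) : Matrix ι ι F) := ⟨_, rfl⟩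
  obtain ⟨x', hx'⟩ : ∃ x' : Matrix ι ι F, x' = ((x⁻¹ : GL ι F) : Matrix ι ι F) := ⟨_, rfl⟩
  have hgg : g' * (g : Matrix ι ι F) = 1 := by rw [hg', ← Units.val_mul, inv_mul_cancel, Units.val_one]
  have hxx : x' * (x : Matrix ι ι F) = 1 := by rw [hx', ← Units.val_mul, inv_mul_cancel, Units.val_one]
  have e : ((g⁻¹ * (x⁻¹ * g * x) : GL ι F) : Matrix ι ι F) - 1 = (g' * x') * (g * X) - (g' * x') * (X * g) := by
    rw [← mul_sub, Units.val_mul, Units.val_mul, Units.val_mul, ← hg', ← hx', hX]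
    have e1 : (g : Matrix ι ι F) * ((x : Matrix ι ι F) - 1) - ((x : Matrix ι ι F) - 1) * g =
        (g : Matrix ι ι F) * x - x * g := by noncomm_ring
    rw [e1, mul_sub]
    have e2 : g' * x' * ((x : Matrix ι ι F) * (g : Matrix ι ι F)) = 1 := by
      rw [mul_assoc, ← mul_assoc x', hxx, one_mul, hgg]
    rw [e2]
    simp only [mul_assoc]
  rw [e, ← hX]
  refine (rank_sub_le2 _ _).trans ?_
  have h1 := (Matrix.rank_mul_le_right (g' * x') ((g : Matrix ι ι F) * X)).trans (Matrix.rank_mul_le_right _ _)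
  have h2 := (Matrix.rank_mul_le_right (g' * x') (X * (g : Matrix ι ι F))).trans (Matrix.rank_mul_le_left _ _)
  omega

variable {F : Type*} [Field F] {n r : ℕ} {K : Subalgebra F (Matrix (Fin n) (Fin n) F)} (hK : IsFieldSubalgebra r K)
include hK

theorem isUnit_of_mem {k : Matrix (Fin n) (Fin n) F} (hk : k ∈ K) (h0 : k ≠ 0) : IsUnit k := by
  obtain ⟨y, hy, hy1⟩ := hK.inv k hk h0
  exact ⟨⟨k, y, hy1, by rw [hK.comm _ hy _ hk]; exact hy1⟩, rfl⟩

theorem commute_of_rank {h : GL (Fin n) F} (hN : h ∈ subalgebraNormalizer K) {d : ℕ}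
    (hd : ((h : Matrix (Fin n) (Fin n) F) - 1).rank ≤ d) (h2 : 2 * d < n) :
    ∀ k ∈ K, (h : Matrix (Fin n) (Fin n) F) * k = k * h := by
  intro k hk
  obtain ⟨k', hk'⟩ : ∃ k', k' = (h : Matrix (Fin n) (Fin n) F) * k * ((h⁻¹ : GL (Fin n) F) : Matrix _ _ F) := ⟨_, rfl⟩
  have hk'K : k' ∈ K := by rw [hk']; exact (hN k).1 hk
  have e1 : (h : Matrix (Fin n) (Fin n) F) * k = k' * h := by
    rw [hk', mul_assoc _ _ (h : Matrix (Fin n) (Fin n) F), ← Units.val_mul, inv_mul_cancel, Units.val_one, mul_one]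
  by_cases e0 : k' = k
  · rw [e1, e0]
  · exfalso
    have h3 := isUnit_of_mem hK (K.sub_mem hk'K hk) (sub_ne_zero.2 e0)
    have h4 := Matrix.rank_of_isUnit _ (h3.mul h.isUnit)
    rw [Fintype.card_fin] at h4
    have e2 : (k' - k) * (h : Matrix (Fin n) (Fin n) F) =
        ((h : Matrix (Fin n) (Fin n) F) - 1) * k - k * ((h : Matrix (Fin n) (Fin n) F) - 1) := by
      rw [sub_mul, ← e1]
      noncomm_ring
    rw [e2] at h4
    have h5 := rank_sub_le2 (((h : Matrix (Fin n) (Fin n) F) - 1) * k) (k * ((h : Matrix (Fin n) (Fin n) F) - 1))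
    have h6 := Matrix.rank_mul_le_left ((h : Matrix (Fin n) (Fin n) F) - 1) k
    have h7 := Matrix.rank_mul_le_right k ((h : Matrix (Fin n) (Fin n) F) - 1)
    omega

theorem eq_one_of_rank {h : GL (Fin n) F} (hN : h ∈ subalgebraNormalizer K) {d : ℕ}
    (hd : ((h : Matrix (Fin n) (Fin n) F) - 1).rank ≤ d) (h2 : 2 * d < n) (h3 : d < r) : h = 1 := by
  have hc := commute_of_rank hK hN hd h2
  by_contra hne
  obtain ⟨v, hv⟩ : ∃ v, ((h : Matrix (Fin n) (Fin n) F) - 1) *ᵥ v ≠ 0 := by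
    by_contra hcon
    push Not at hcon
    apply hne
    apply Units.ext
    rw [Units.val_one, ← sub_eq_zero]
    apply Matrix.mulVec_injective
    funext v
    rw [hcon, Matrix.zero_mulVec]
  have h4 := Cfsg.Agent.H907.finrank_orb K (fun x hx h0 => isUnit_of_mem hK hx h0) hv
  have h5 : Cfsg.Agent.H907.orb K (((h : Matrix (Fin n) (Fin n) F) - 1) *ᵥ v) ≤
      LinearMap.range ((h : Matrix (Fin n) (Fin n) F) - 1).mulVecLin := by
    intro w hw
    obtain ⟨k, hk, rfl⟩ := (Cfsg.Agent.H907.mem_orb K).1 hw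
    refine ⟨k *ᵥ v, ?_⟩
    rw [Matrix.mulVecLin_apply, Matrix.mulVec_mulVec, Matrix.mulVec_mulVec, sub_mul, mul_sub, hc k hk, one_mul, mul_one]
  have h6 := Submodule.finrank_mono h5
  rw [h4, hK.finrank_eq] at h6
  have h7 : finrank F (LinearMap.range ((h : Matrix (Fin n) (Fin n) F) - 1).mulVecLin) ≤ d := hd
  omega

end rank

end Cfsg.Agent.H558.EPU
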