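import Cfsg.Agent.H558.EPU.Big
import Cfsg.Agent.H558.EPU.Count
import Cfsg.Agent.H284.EP.Hat
import Cfsg.Agent.H907.SU3Sylow
import Cfsg.Agent.H922.OddFull

/-!
# S3499, row SU-C3: the case `n = r = 3` (helper558)
-/

set_option autoImplicit false
set_option linter.unusedSectionVars false

namespace Cfsg.Agent.H558.EPU

open Cfsg Cfsg.Geo Matrix Module Cfsg.Agent.LieClassical.HermBasic Cfsg.Agent.H907 Cfsg.Agent.H918
open Cfsg.Agent.H284 Cfsg.Agent.H419.EP Cfsg.Agent.H950.EPU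
open scoped MatrixGroups

section num

theorem num_ineq {q : ℕ} (hq : 3 ≤ q) : 27 * (q ^ 2 - q + 1) ^ 3 < 4 * (q ^ 3 * (q ^ 2 - 1) * (q ^ 3 + 1)) := by
  obtain ⟨k, rfl⟩ : ∃ k, q = k + 3 := ⟨q - 3, by omega⟩
  have e1 : (k + 3) ^ 2 - (k + 3) + 1 = k ^ 2 + 5 * k + 7 := by
    have : (k + 3) ^ 2 = k ^ 2 + 5 * k + 6 + (k + 3) := by ring
    omega
  have e2 : (k + 3) ^ 2 - 1 = k ^ 2 + 6 * k + 8 := by
    have : (k + 3) ^ 2 = k ^ 2 + 6 * k + 8 + 1 := by ring
    omega
  rw [e1, e2]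
  have e3 : 4 * ((k + 3) ^ 3 * (k ^ 2 + 6 * k + 8) * ((k + 3) ^ 3 + 1)) =
      27 * (k ^ 2 + 5 * k + 7) ^ 3 + (14931 + 45819 * k + 59688 * k ^ 2 + 43583 * k ^ 3 + 19608 * k ^ 4 +
        5575 * k ^ 5 + 977 * k ^ 6 + 96 * k ^ 7 + 4 * k ^ 8) := by ring
  rw [e3]
  exact Nat.lt_add_of_pos_right (by positivity)

theorem not_nine_dvd {q : ℕ} (h : 9 ∣ q ^ 2 - q + 1) : False := by
  have hq : q ≤ q ^ 2 := Nat.le_self_pow two_ne_zero q
  have h1 : 9 ∣ q ^ 2 + 1 + 8 * q := by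
    have : q ^ 2 + 1 + 8 * q = (q ^ 2 - q + 1) + 9 * q := by omega
    rw [this]
    exact dvd_add h ⟨q, rfl⟩
  have h2 : (q ^ 2 + 1 + 8 * q) % 9 = 0 := Nat.mod_eq_zero_of_dvd h1
  have h3 : q % 9 < 9 := Nat.mod_lt _ (by norm_num)
  have h4 : (q ^ 2 + 1 + 8 * q) % 9 = ((q % 9) ^ 2 + 1 + 8 * (q % 9)) % 9 := by
    simp [Nat.add_mod, Nat.mul_mod, Nat.pow_mod]
  rw [h4] at h2
  interval_cases (q % 9) <;> omega

theorem three_dvd_of {q : ℕ} (h : 3 ∣ q ^ 2 - q + 1) : 3 ∣ q ^ 2 - 1 := by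
  have hq : q ≤ q ^ 2 := Nat.le_self_pow two_ne_zero q
  have h1 : 3 ∣ q ^ 2 + 1 + 2 * q := by
    have : q ^ 2 + 1 + 2 * q = (q ^ 2 - q + 1) + 3 * q := by omega
    rw [this]
    exact dvd_add h ⟨q, rfl⟩
  have h2 : (q ^ 2 + 1 + 2 * q) % 3 = 0 := Nat.mod_eq_zero_of_dvd h1
  have h3 : q % 3 < 3 := Nat.mod_lt _ (by norm_num)
  have h4 : (q ^ 2 + 1 + 2 * q) % 3 = ((q % 3) ^ 2 + 1 + 2 * (q % 3)) % 3 := by
    simp [Nat.add_mod, Nat.mul_mod, Nat.pow_mod]
  have h5 : (q ^ 2) % 3 = (q % 3) ^ 2 % 3 := by rw [Nat.pow_mod]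
  rw [h4] at h2
  have h6 : q % 3 = 2 := by
    interval_cases (q % 3) <;> omega
  rw [h6] at h5
  have h7 : 1 ≤ q ^ 2 := Nat.one_le_pow _ _ (by omega)
  omega

end num

theorem relIndex_mul_card' {G : Type*} [Group G] {H K : Subgroup G} (h : H ≤ K) :
    H.relIndex K * Nat.card H = Nat.card K := by
  have h1 := Subgroup.relIndex_mul_relIndex ⊥ H K bot_le h
  rw [Subgroup.relIndex_bot_left, Subgroup.relIndex_bot_left, mul_comm] at h1
  exact h1

section theta

variable {F : Type*} [Field F] {n : ℕ} {K : Subalgebra F (Matrix (Fin n) (Fin n) F)}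

theorem normAlg (K : Subalgebra F (Matrix (Fin n) (Fin n) F)) : H912.NormAlg (subalgebraNormalizer K) K :=
  fun _ hh a ha => (hh a).mp ha

/-- the action of the normaliser on the field -/
noncomputable def theta (K : Subalgebra F (Matrix (Fin n) (Fin n) F)) : subalgebraNormalizer K →* (K ≃ₐ[F] K) where
  toFun := fun h => H912.conjSub (normAlg K) h
  map_one' := by
    apply AlgEquiv.ext
    intro x
    apply Subtype.ext
    rw [H912.conjSub_coe]
    simp
  map_mul' := fun a b => by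
    apply AlgEquiv.ext
    intro x
    apply Subtype.ext
    rw [AlgEquiv.mul_apply, H912.conjSub_coe, H912.conjSub_coe, H912.conjSub_coe, Subgroup.coe_mul,
      _root_.mul_inv_rev, Units.val_mul, Units.val_mul]
    simp only [Matrix.mul_assoc]

theorem theta_eq_one {g : subalgebraNormalizer K} (hg : theta K g = 1) :
    ∀ k ∈ K, ((g : GL (Fin n) F) : Matrix (Fin n) (Fin n) F) * k = k * ((g : GL (Fin n) F) : Matrix (Fin n) (Fin n) F) := by
  intro k hk
  have h2 := H912.conjSub_coe (normAlg K) g ⟨k, hk⟩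
  have h3 : H912.conjSub (normAlg K) g = 1 := hg
  rw [h3] at h2
  have h4 : k = ((g : GL (Fin n) F) : Matrix (Fin n) (Fin n) F) * k *
    (((g : GL (Fin n) F)⁻¹ : GL (Fin n) F) : Matrix (Fin n) (Fin n) F) := h2
  conv_rhs => rw [h4]
  rw [mul_assoc, ← Units.val_mul, inv_mul_cancel, Units.val_one, mul_one]

end theta

section three

variable {Q : Type*} [Group Q] [Finite Q] {A : Subgroup Q} {Γ : Subgroup (MulAut Q)}
  {F : Type*} [Field F] [Fintype F] {q : ℕ}
  {K : Subalgebra F (Matrix (Fin 3) (Fin 3) F)}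

theorem three_false (m : Model Q (Cfsg.GU 3 F q ⊓ Cfsg.Geo.specialLinear (Fin 3) F)) (h : EPT A Γ)
    (hF : Fintype.card F = q ^ 2) (hq : 3 ≤ q) (hK : IsFieldSubalgebra 3 K)
    (hadj : IsAdjointClosedFor (hermForm 3 F q) K)
    (hle : m.hat A ≤ subalgebraNormalizer K ⊓ Cfsg.GU 3 F q) : False := by
  classical
  have hne : Nonempty (Fin 3) := ⟨0⟩
  have hfinGL : Finite (GL (Fin 3) F) := inferInstance
  have hmem := mem_hat_iff_norm m h hF le_rfl (by omega) (by norm_num) hK hle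
  let _ : Field K := (isField_of hK).toField
  have hfd : Module.Finite F K := inferInstance
  have hKfin : Finite K := Module.finite_of_finite F
  have hgal : IsGalois F K := inferInstance
  have hcardG : Nat.card (K ≃ₐ[F] K) = 3 := by rw [IsGalois.card_aut_eq_finrank, hK.finrank_eq]
  have hfinG : Finite (K ≃ₐ[F] K) := Nat.finite_of_card_ne_zero (by rw [hcardG]; norm_num)
  obtain ⟨Th, hTh⟩ : ∃ Th : Subgroup (GL (Fin 3) F), Th = KU hK ⊓ SUg 3 F q := ⟨_, rfl⟩
  have hThmem : ∀ g, g ∈ Th ↔ (g : Matrix (Fin 3) (Fin 3) F) ∈ K ∧ g ∈ SUg 3 F q := by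
    intro g
    rw [hTh, Subgroup.mem_inf, mem_KU]
  have hThS : Th ≤ Cfsg.GU 3 F q ⊓ Cfsg.Geo.specialLinear (Fin 3) F := by
    intro g hg
    exact ((hThmem g).1 hg).2
  have hThA : Th ≤ m.hat A := by
    intro g hg
    obtain ⟨h1, h2⟩ := (hThmem g).1 hg
    exact (hmem g).2 ⟨mem_norm_of_commute (fun k hk => hK.comm _ h1 _ hk), h2⟩
  have hz : Cfsg.Geo.scalars (Fin 3) F ⊓ (Cfsg.GU 3 F q ⊓ Cfsg.Geo.specialLinear (Fin 3) F) ≤ Th := by
    rintro g ⟨hg1, hg2⟩
    rw [hThmem]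
    refine ⟨?_, hg2⟩
    obtain ⟨c, hc⟩ := (mem_scalars_iff g).1 hg1
    rw [hc]
    exact K.smul_mem K.one_mem _
  have hhat : m.hat (Hat.im m Th) = Th := m.hat_map Th hThS hz
  have hTA : Hat.im m Th ≤ A := (Hat.im_le m hThS).2 hThA
  have hKmem : ∀ g : subalgebraNormalizer K, theta K g = 1 → ((g : GL (Fin 3) F) : Matrix (Fin 3) (Fin 3) F) ∈ K := by
    intro g hg
    exact H922.mem_of_commute (by rwa [Fintype.card_fin]) (by rw [Fintype.card_fin]; norm_num) (theta_eq_one hg)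
  -- cubes
  have hcube : ∀ a ∈ A, a ^ 3 ∈ Hat.im m Th := by
    intro a ha
    obtain ⟨s, rfl⟩ := m.surj a
    have hs : (s : GL (Fin 3) F) ∈ m.hat A := (m.mem_hat_iff s).2 ha
    have hsN := ((hmem _).1 hs).1
    refine ⟨s ^ 3, ?_, map_pow _ _ _⟩
    show ((s ^ 3 : (Cfsg.GU 3 F q ⊓ Cfsg.Geo.specialLinear (Fin 3) F : Subgroup (GL (Fin 3) F))) : GL (Fin 3) F) ∈ Th
    rw [hThmem]
    refine ⟨?_, (s ^ 3).2⟩
    have h1 : theta K (⟨s, hsN⟩ ^ 3) = 1 := by
      have h2 := pow_card_eq_one' (x := theta K ⟨s, hsN⟩)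
      rw [hcardG] at h2
      rw [map_pow]
      exact h2
    exact hKmem _ h1
  -- no element of order three
  have h3 : ∀ t ∈ Hat.im m Th, t ^ 3 = 1 → t = 1 := by
    rintro _ ⟨s, hs, rfl⟩ ht
    have hs' : (s : GL (Fin 3) F) ∈ Th := hs
    obtain ⟨hsK, hsS⟩ := (hThmem _).1 hs'
    rw [m.ker]
    rw [← map_pow, m.ker, Subgroup.coe_pow] at ht
    obtain ⟨c, hc⟩ := (mem_scalars_iff _).1 ht
    have hdet : ((s : GL (Fin 3) F) : Matrix (Fin 3) (Fin 3) F).det = 1 := (mem_SUg.1 hsS).2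
    have hc3 : (c : F) ^ 3 = 1 := by
      have h1 := congrArg Matrix.det hc
      rw [Units.val_pow_eq_pow_val, Matrix.det_pow, hdet, one_pow, Matrix.det_smul, Fintype.card_fin, Matrix.det_one,
        mul_one] at h1
      exact h1.symm
    have h9 : (s : GL (Fin 3) F) ^ 9 = 1 := by
      apply Units.ext
      have e : (s : GL (Fin 3) F) ^ 9 = ((s : GL (Fin 3) F) ^ 3) ^ 3 := by rw [← pow_mul]
      rw [e, Units.val_pow_eq_pow_val, hc, smul_pow, hc3, one_pow, one_smul, Units.val_one]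
    have hq1 := pow_eq_one_of_mem_SU hF hK hadj hsK hsS
    have ho1 := orderOf_dvd_of_pow_eq_one h9
    have ho2 := orderOf_dvd_of_pow_eq_one hq1
    have h9' : (9 : ℕ) = 3 ^ 2 := by norm_num
    rw [h9', Nat.dvd_prime_pow Nat.prime_three] at ho1
    obtain ⟨j, hj, ho⟩ := ho1
    have hj1 : j ≤ 1 := by
      by_contra hj1
      have : j = 2 := by omega
      rw [ho, this] at ho2
      exact not_nine_dvd ho2
    have hs3 : (s : GL (Fin 3) F) ^ 3 = 1 := by
      rw [← orderOf_dvd_iff_pow_eq_one, ho]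
      exact (pow_dvd_pow 3 hj1).trans (by norm_num)
    by_cases hj0 : j = 0
    · rw [hj0, pow_zero, orderOf_eq_one_iff] at ho
      rw [ho]
      exact Subgroup.one_mem _
    · have hj2 : j = 1 := by omega
      rw [ho, hj2, pow_one] at ho2
      have h3F := three_dvd_of ho2
      rw [← hF, ← Nat.card_eq_fintype_card, ← Nat.card_units] at h3F
      have : Fact (Nat.Prime 3) := ⟨Nat.prime_three⟩
      obtain ⟨ω, hω⟩ := exists_prime_orderOf_dvd_card' 3 h3F
      have hω3 : (ω : F) ^ 3 = 1 := by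
        rw [← Units.val_pow_eq_pow_val, ← hω, pow_orderOf_eq_one, Units.val_one]
      have hω1 : (ω : F) ≠ 1 := by
        intro e
        have : ω = 1 := Units.ext e
        rw [this, orderOf_one] at hω
        norm_num at hω
      have hω2 : 1 + (ω : F) + (ω : F) ^ 2 = 0 := by
        have e : ((ω : F) - 1) * (1 + (ω : F) + (ω : F) ^ 2) = 0 := by linear_combination hω3
        exact (mul_eq_zero.1 e).resolve_left (sub_ne_zero.2 hω1)
      let kk : K := ⟨_, hsK⟩
      have hkk3 : kk ^ 3 = 1 := Subtype.ext (by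
        have := congrArg Units.val hs3
        rw [Units.val_pow_eq_pow_val] at this
        exact this)
      have hw3 : (algebraMap F K (ω : F)) ^ 3 = 1 := by rw [← map_pow, hω3, map_one]
      have hw2 : 1 + algebraMap F K (ω : F) + (algebraMap F K (ω : F)) ^ 2 = 0 := by
        rw [← map_pow, ← map_one (algebraMap F K), ← map_add, ← map_add, hω2, map_zero]
      have hprod : (kk - 1) * ((kk - algebraMap F K (ω : F)) * (kk - (algebraMap F K (ω : F)) ^ 2)) = 0 := by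
        linear_combination hkk3 - (kk ^ 2 - kk * (algebraMap F K (ω : F))) * hw2 - hw3
      rw [mem_scalars_iff]
      rcases mul_eq_zero.1 hprod with h4 | h4
      · refine ⟨1, ?_⟩
        have h5 := congrArg Subtype.val (sub_eq_zero.1 h4)
        rw [Units.val_one, one_smul]
        exact h5
      rcases mul_eq_zero.1 h4 with h4 | h4
      · refine ⟨ω, ?_⟩
        have h5 := congrArg Subtype.val (sub_eq_zero.1 h4)
        rw [← Algebra.algebraMap_eq_smul_one]
        exact h5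
      · refine ⟨ω ^ 2, ?_⟩
        rw [← map_pow] at h4
        have h5 := congrArg Subtype.val (sub_eq_zero.1 h4)
        rw [← Algebra.algebraMap_eq_smul_one, Units.val_pow_eq_pow_val]
        exact h5
  -- abelian
  have hab : ∀ a ∈ Hat.im m Th, ∀ b ∈ Hat.im m Th, a * b = b * a := by
    rintro _ ⟨s, hs, rfl⟩ _ ⟨t, ht, rfl⟩
    rw [← map_mul, ← map_mul]
    congr 1
    apply Subtype.ext
    apply Units.ext
    exact hK.comm _ ((hThmem _).1 hs).1 _ ((hThmem _).1 ht).1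
  -- the index of `T` in `A`
  have hidx : (Hat.im m Th).relIndex A ≤ 3 := by
    have e1 : Th.relIndex (m.hat A) = (Hat.im m Th).relIndex A := by
      conv_lhs => rw [← hhat]
      rw [Hat.relIndex_hat m (m.hat_le A)]
      congr 1
      exact m.map_hat A
    rw [← e1]
    let φ : m.hat A →* (K ≃ₐ[F] K) :=
      (theta K).comp (Subgroup.inclusion (fun g hg => ((hmem g).1 hg).1 : m.hat A ≤ subalgebraNormalizer K))
    have hker : φ.ker ≤ Th.subgroupOf (m.hat A) := by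
      intro g hg
      rw [Subgroup.mem_subgroupOf, hThmem]
      exact ⟨hKmem ⟨g, ((hmem g).1 g.2).1⟩ hg, ((hmem g).1 g.2).2⟩
    have h1 := Subgroup.index_dvd_of_le hker
    rw [Subgroup.index_ker] at h1
    have h2 : Nat.card φ.range ≤ 3 :=
      (Nat.card_le_card_of_injective _ φ.range.subtype_injective).trans hcardG.le
    exact (Nat.le_of_dvd Nat.card_pos h1).trans h2
  have hcardA : Nat.card A ≤ 3 * Nat.card (Hat.im m Th) := by
    rw [← relIndex_mul_card' hTA]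
    exact Nat.mul_le_mul_right _ hidx
  have hcount := count_le h hTA hab h3 hcube hcardA
  -- the order of `T̂`
  have hThcard : Nat.card Th ≤ q ^ 2 - q + 1 := by
    have hcyc : IsCyclic Th := by
      have := isCyclic_KU hK
      have hle' : Th ≤ KU hK := by rw [hTh]; exact inf_le_left
      exact isCyclic_of_injective (Subgroup.inclusion hle') (Subgroup.inclusion_injective hle')
    obtain ⟨g, hg⟩ := hcyc.exists_generator
    rw [← orderOf_eq_card_of_forall_mem_zpowers hg]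
    apply Nat.le_of_dvd (by omega)
    apply orderOf_dvd_of_pow_eq_one
    apply Subtype.ext
    rw [Subgroup.coe_pow]
    exact pow_eq_one_of_mem_SU hF hK hadj ((hThmem _).1 g.2).1 ((hThmem _).1 g.2).2
  have hS : Nat.card (Cfsg.GU 3 F q ⊓ Cfsg.Geo.specialLinear (Fin 3) F : Subgroup (GL (Fin 3) F)) =
      q ^ 3 * (q ^ 2 - 1) * (q ^ 3 + 1) := SU3.card_SUg hF
  have hrel : Nat.card Th * Nat.card Q = Nat.card (Hat.im m Th) *
      Nat.card (Cfsg.GU 3 F q ⊓ Cfsg.Geo.specialLinear (Fin 3) F : Subgroup (GL (Fin 3) F)) := by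
    have e1 := Hat.index_hat (A := Hat.im m Th) m
    rw [hhat] at e1
    have e2 := relIndex_mul_card' hThS
    rw [← e2, e1, ← Subgroup.card_mul_index (Hat.im m Th)]
    ring
  have hQS : Nat.card Q ≤ Nat.card (Cfsg.GU 3 F q ⊓ Cfsg.Geo.specialLinear (Fin 3) F : Subgroup (GL (Fin 3) F)) :=
    Nat.card_le_card_of_surjective _ m.surj
  have hTpos : 0 < Nat.card (Hat.im m Th) := Nat.card_pos
  have hSpos : 0 < Nat.card (Cfsg.GU 3 F q ⊓ Cfsg.Geo.specialLinear (Fin 3) F : Subgroup (GL (Fin 3) F)) := Nat.card_pos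
  generalize Nat.card (Cfsg.GU 3 F q ⊓ Cfsg.Geo.specialLinear (Fin 3) F : Subgroup (GL (Fin 3) F)) = NS at *
  generalize Nat.card (Hat.im m Th) = NT at *
  generalize Nat.card Th = NTh at *
  generalize Nat.card Q = NQ at *
  generalize Nat.card A = NA at *
  have h4 : NT ≤ NTh := by
    apply Nat.le_of_mul_le_mul_right (c := NS) _ hSpos
    rw [← hrel]
    exact Nat.mul_le_mul_left _ hQS
  have h5 : 4 * NS * NT ≤ (27 * NTh ^ 3) * NT := by
    calc 4 * NS * NT = NTh * (4 * NQ) := by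
          have : 4 * NS * NT = 4 * (NT * NS) := by ring
          rw [this, ← hrel]
          ring
      _ ≤ NTh * NA ^ 3 := Nat.mul_le_mul_left _ hcount
      _ ≤ NTh * (3 * NT) ^ 3 := Nat.mul_le_mul_left _ (Nat.pow_le_pow_left hcardA 3)
      _ = 27 * NTh * (NT * NT) * NT := by ring
      _ ≤ 27 * NTh * (NTh * NTh) * NT := Nat.mul_le_mul_right _ (Nat.mul_le_mul_left _ (Nat.mul_le_mul h4 h4))
      _ = (27 * NTh ^ 3) * NT := by ring
  have h6 := Nat.le_of_mul_le_mul_right h5 hTpos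
  have h7 : 27 * NTh ^ 3 ≤ 27 * (q ^ 2 - q + 1) ^ 3 := Nat.mul_le_mul_left _ (Nat.pow_le_pow_left hThcard 3)
  have h8 := num_ineq hq
  rw [hS] at h6
  omega

end three

end Cfsg.Agent.H558.EPU
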